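import Mathlib

/-! Lifting a map to a smooth algebra from a quotient, after an étale neighbourhood. -/

universe u

open TensorProduct

namespace Groth.Agent.EtNhdH1

theorem key {A B C C₀ : Type u} [CommRing A] [CommRing B] [CommRing C] [CommRing C₀]
    (a : A →+* B) (c : A →+* C) (φ : B →+* C₀) (π : C →+* C₀) (hπ : Function.Surjective π)
    (hφ : φ.comp a = π.comp c) (ha : a.IsStandardSmooth) :
    ∃ (R₁ : Type u) (_ : CommRing R₁) (ε : C →+* R₁) (σ : R₁ →+* C₀) (ψ : B →+* R₁),
      ε.Etale ∧ σ.comp ε = π ∧ ψ.comp a = ε.comp c ∧ σ.comp ψ = φ ∧ RingHom.ker σ ≤ (RingHom.ker π).map ε := by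
  obtain ⟨n, g, hga, hge⟩ := ha.exists_etale_mvPolynomial
  let P := MvPolynomial (Fin n) A
  choose cT hcT using fun i => hπ (φ (g (MvPolynomial.X i)))
  let h : P →+* C := MvPolynomial.eval₂Hom c cT
  have hh : π.comp h = φ.comp g := by
    refine MvPolynomial.ringHom_ext (fun r => ?_) fun i => ?_
    · show π (MvPolynomial.eval₂Hom c cT (MvPolynomial.C r)) = φ (g.comp MvPolynomial.C r)
      rw [MvPolynomial.eval₂Hom_C, hga]
      exact (RingHom.congr_fun hφ r).symm
    · show π (MvPolynomial.eval₂Hom c cT (MvPolynomial.X i)) = φ (g (MvPolynomial.X i))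
      rw [MvPolynomial.eval₂Hom_X', hcT]
  algebraize [h, g, π, π.comp h]
  let φA : B →ₐ[P] C₀ := { φ with commutes' := fun x => (RingHom.congr_fun hh x).symm }
  let C' := C ⊗[P] B
  let r : C' →ₐ[C] C₀ := Algebra.TensorProduct.lift (Algebra.ofId C C₀) φA fun _ _ => Commute.all _ _
  let D := C₀ ⊗[C] C'
  let r' : D →ₐ[C₀] C₀ := Algebra.TensorProduct.lift (AlgHom.id C₀ C₀) r fun _ _ => Commute.all _ _
  have hr's : Function.Surjective r' := fun z => ⟨algebraMap C₀ D z, r'.commutes z⟩
  letI : Algebra D C₀ := r'.toAlgebra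
  haveI : IsScalarTower C₀ D C₀ := .of_algebraMap_eq' r'.comp_algebraMap.symm
  haveI : Algebra.FormallyEtale D C₀ := .of_restrictScalars (R := C₀)
  obtain ⟨e, he, hker⟩ := (Ideal.isIdempotentElem_iff_of_fg _
    (Algebra.FinitePresentation.ker_fG_of_surjective r' hr's)).1
    ((Algebra.FormallyEtale.iff_of_surjective (R := D) (S := C₀) hr's).1 inferInstance)
  let m : C' →ₐ[C] D := Algebra.TensorProduct.includeRight
  have hm : Function.Surjective m := fun z => by
    induction z using TensorProduct.induction_on with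
    | zero => exact ⟨0, map_zero _⟩
    | tmul x w =>
      obtain ⟨x, rfl⟩ := hπ x
      refine ⟨x • w, ?_⟩
      show (1 : C₀) ⊗ₜ[C] (x • w) = _
      rw [← TensorProduct.smul_tmul, Algebra.smul_def, mul_one]
      rfl
    | add x y hx hy =>
      obtain ⟨u, rfl⟩ := hx
      obtain ⟨v, rfl⟩ := hy
      exact ⟨u + v, map_add _ _ _⟩
  have hmker : ∀ z, m z = 0 → z ∈ (RingHom.ker π).map (algebraMap C C') := by
    intro z hz
    have hex : Function.Exact (Submodule.subtype (RingHom.ker π)) (Algebra.linearMap C C₀) := fun x =>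
      ⟨fun hx => ⟨⟨x, hx⟩, rfl⟩, fun ⟨y, hy⟩ => hy ▸ y.2⟩
    have hx := (rTensor_exact C' hex hπ ((1 : C) ⊗ₜ z)).1 (by
      show algebraMap C C₀ 1 ⊗ₜ[C] z = 0
      rw [map_one]; exact hz)
    obtain ⟨w, hw⟩ := hx
    have hw' := congrArg (TensorProduct.lid C C') hw
    rw [TensorProduct.lid_tmul, one_smul] at hw'
    rw [← hw']
    clear hw hw'
    induction w using TensorProduct.induction_on with
    | zero => simp
    | tmul i v =>
      rw [LinearMap.rTensor_tmul, TensorProduct.lid_tmul, Algebra.smul_def]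
      exact Ideal.mul_mem_right _ _ (Ideal.mem_map_of_mem _ i.2)
    | add x y hx hy => rw [map_add, map_add]; exact add_mem hx hy
  have hrm : ∀ z, r' (m z) = r z := fun z => by
    show r' ((1 : C₀) ⊗ₜ z) = r z
    rw [Algebra.TensorProduct.lift_tmul, AlgHom.id_apply, one_mul]
  obtain ⟨e', he'⟩ := hm e
  have hre : r e' = 0 := by
    rw [← hrm, he']
    exact (show e ∈ RingHom.ker r' from hker ▸ Ideal.mem_span_singleton_self e)
  let f := 1 - e'
  let R₁ := Localization.Away f
  let σ : R₁ →+* C₀ := IsLocalization.Away.lift f (g := r.toRingHom) (by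
    show IsUnit (r (1 - e')); rw [map_sub, map_one, hre, sub_zero]; exact isUnit_one)
  let ε : C →+* R₁ := (algebraMap C' R₁).comp (algebraMap C C')
  let ψ : B →+* R₁ := (algebraMap C' R₁).comp Algebra.TensorProduct.includeRight.toRingHom
  have hσ : ∀ z, σ (algebraMap C' R₁ z) = r z := IsLocalization.Away.lift_eq _ _
  refine ⟨R₁, inferInstance, ε, σ, ψ, ?_, ?_, ?_, ?_, ?_⟩
  · haveI : Algebra.Etale P B := hge
    haveI : Algebra.Etale C' R₁ := Algebra.Etale.of_isLocalizationAway f
    exact RingHom.etale_algebraMap.2 (Algebra.Etale.comp C C' R₁)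
  · exact RingHom.ext fun x => (hσ _).trans (r.commutes x)
  · refine RingHom.ext fun x => congrArg (algebraMap C' R₁) ?_
    show (1 : C) ⊗ₜ[P] a x = algebraMap C C' (c x)
    have h1 : a x = algebraMap P B (MvPolynomial.C x) := (RingHom.congr_fun hga x).symm
    have h2 : c x = algebraMap P C (MvPolynomial.C x) := (MvPolynomial.eval₂Hom_C _ _ _).symm
    rw [h1, h2, Algebra.TensorProduct.algebraMap_apply, Algebra.algebraMap_self, RingHom.id_apply,
      Algebra.algebraMap_eq_smul_one, Algebra.algebraMap_eq_smul_one, TensorProduct.smul_tmul]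
  · refine RingHom.ext fun x => (hσ _).trans ?_
    show r ((1 : C) ⊗ₜ[P] x) = φ x
    rw [Algebra.TensorProduct.lift_tmul, map_one, one_mul]
    rfl
  · intro z hz
    obtain ⟨w, k, rfl⟩ := IsLocalization.exists_mk'_eq (Submonoid.powers f) z
    have hw : r w = 0 := by
      rw [← hσ, ← IsLocalization.mk'_spec R₁ w k, map_mul, RingHom.mem_ker.1 hz, zero_mul]
    rw [IsLocalization.mk'_mem_iff]
    have hk : ∀ y ∈ (RingHom.ker π).map (algebraMap C C'), algebraMap C' R₁ y ∈ (RingHom.ker π).map ε := fun y hy => by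
      rw [show ε = (algebraMap C' R₁).comp (algebraMap C C') from rfl, ← Ideal.map_map]
      exact Ideal.mem_map_of_mem _ hy
    have hmem : m w ∈ RingHom.ker r' := by rw [RingHom.mem_ker, hrm]; exact hw
    replace hmem : m w ∈ Ideal.span {e} := hker.le hmem
    rw [Ideal.mem_span_singleton'] at hmem
    obtain ⟨u, hu⟩ := hmem
    obtain ⟨u', rfl⟩ := hm u
    have h1 := hk _ (hmker (w - u' * e') (by rw [map_sub, map_mul, he', hu, sub_self]))
    have h2 := hk _ (hmker (e' * f) (by
      rw [map_mul, map_sub, map_one, he', mul_sub, mul_one, he.eq, sub_self]))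
    rw [map_mul, Ideal.mul_unit_mem_iff_mem _ (IsLocalization.Away.algebraMap_isUnit f)] at h2
    rw [map_sub, map_mul] at h1
    simpa using add_mem h1 (Ideal.mul_mem_left _ (algebraMap C' R₁ u') h2)

end Groth.Agent.EtNhdH1
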